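import Cfsg.Agent.AE.Defs

/-!
# The field end game: fusion and strong closure
-/

set_option autoImplicit false
set_option linter.unusedSectionVars false

namespace Cfsg.Lib.AE

open Subgroup Cfsg.Lib.Trans Cfsg.Lib.Gold
open Cfsg.Lib.SG2 (Uq)
open scoped commutatorElement

variable {G : Type*} [Group G] [Finite G] {X L U P Q R : Subgroup G} {z t u w : G}

theorem FE.UL (h : FE X L U P Q R z t u w) : U ≤ L := h.UP.trans h.PL

theorem FE.zL (h : FE X L U P Q R z t u w) : z ∈ L := h.UL (h.QU (h.RQ h.zR))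

theorem FE.CY (h : FE X L U P Q R z t u w) : X ⊓ Cs R ≤ X ⊓ C1 z :=
  inf_le_inf_left _ (Cs_le_C1 h.zR)

theorem FE.UC (h : FE X L U P Q R z t u w) : U ≤ X ⊓ Cs R := le_inf h.syl.le (h.UP.trans h.PR)

theorem FE.sylC (h : FE X L U P Q R z t u w) : IsSylowIn 2 U (X ⊓ Cs R) :=
  h.syl.mono h.UC inf_le_left

theorem FE.sylY (h : FE X L U P Q R z t u w) : IsSylowIn 2 U (X ⊓ C1 z) :=
  h.syl.mono (h.UC.trans h.CY) inf_le_left

theorem FE.RZ (h : FE X L U P Q R z t u w) : R ≤ U ⊓ Cs U :=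
  le_inf (h.RQ.trans h.QU) (le_Cs_comm.1 (h.UP.trans h.PR))

theorem cn_conj {c v : G} (hc : c ∈ X ⊓ C1 z) (h : Cn X z (v * z)) : Cn X z (c * v * c⁻¹ * z) := by
  have := h.conj hc.1
  rwa [← conj_mul, mem_C1.1 hc.2, mul_inv_cancel_right] at this

theorem FE.fus (h : FE X L U P Q R z t u w) {v : G} (hv : v ∈ L) (c : Cn X z v) : Cn L z v := by
  obtain ⟨l, hl, h1⟩ := h.cls v hv (c.sq (h.el z h.zR))
  obtain ⟨g, -, rfl⟩ := c
  have e : l * (g * z * g⁻¹) * l⁻¹ = l * g * z * (l * g)⁻¹ := by group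
  obtain ⟨m, hm, h2⟩ := h.uq.fus h.tM h.t2 h.tz (e ▸ h1)
  exact (h.nsA m hm).trans (Cn.symm ⟨l, hl, e.trans h2.symm⟩)

theorem FE.mem_Q (h : FE X L U P Q R z t u w) {c v : G} (hc : c ∈ X ⊓ C1 z) (hv : v ∈ cj c U)
    (h1 : Cn X z v) (h2 : Cn X z (v * z)) : v ∈ cj c Q := by
  rw [← inv_inv c, mem_cj_inv] at hv ⊢
  exact h.k3 _ hv (h.fus (h.UL hv) (h1.conj (inv_mem hc.1)))
    (h.fus (mul_mem (h.UL hv) h.zL) (cn_conj (inv_mem hc) h2))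

theorem FE.mem_Q' (h : FE X L U P Q R z t u w) {g v : G} (hg : g ∈ X ⊓ C1 z)
    (hv : g * v * g⁻¹ ∈ U) (h1 : Cn L z v) (h2 : Cn L z (v * z)) : g * v * g⁻¹ ∈ Q :=
  mem_cj_inv.1 (h.mem_Q (inv_mem hg) (mem_cj_inv.2 hv) (h1.mono h.le) (h2.mono h.le))

theorem FE.scR (h : FE X L U P Q R z t u w) :
    ∀ r ∈ R, ∀ g ∈ X ⊓ C1 z, g * r * g⁻¹ ∈ U → g * r * g⁻¹ ∈ R := fun r hr g hg hv => by
  have gz : g * z * g⁻¹ = z := by rw [mem_C1.1 hg.2, mul_inv_cancel_right]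
  by_contra hn
  have h1 := h.mem_Q' hg hv (h.rA r hr fun e => hn (by simp [e]))
    (h.rA _ (mul_mem hr h.zR) fun e => hn (by
      rw [mul_right_cancel (e.trans (h.el z h.zR).symm), gz]; exact h.zR))
  obtain ⟨b, hb, e⟩ := h.fq _ h1 hn
  refine h.z1 (SG2.not_fuse h.sylY (h.RZ hr) (h.RZ h.zR) (h.el z h.zR)
    (mul_mem (mul_mem (inv_mem hg) (h.sylY.le (h.QU hb))) hg) ?_ fun n hn => mem_C1.1 hn.1.2)
  calc _ = g⁻¹ * (b * (g * r * g⁻¹) * b⁻¹) * g := by group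
    _ = g⁻¹ * (g * r * g⁻¹ * (g * z * g⁻¹)) * g := by rw [e, gz]
    _ = _ := by group

theorem FE.wc (h : FE X L U P Q R z t u w) {g : G} (hg : g ∈ X ⊓ C1 z) (hR : g ∈ Ns R)
    (e : cj g Q ≤ U) : cj g Q = Q :=
  cj_eq_of_mem_normalizer (mem_normalizer_of_cj_le (cj_le_iff_le_cj_inv.2 (h.gQ.trans (sup_le
    ((closure_le _).2 fun v hv => mem_cj_inv.2 (h.mem_Q' hg (cj_le_iff.1 e v hv.1) hv.2.1 hv.2.2))
    fun _ hr => mem_cj_inv.2 (h.RQ (mem_normalizer_conj hR hr))))))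

theorem FE.wc' (h : FE X L U P Q R z t u w) {g c : G} (hg : g ∈ X ⊓ Cs R) (hc : c ∈ X ⊓ Cs R)
    (e : cj g Q ≤ cj c U) : cj g Q = cj c Q := by
  have h1 := mul_mem (inv_mem hc) hg
  have := h.wc (h.CY h1) (Cs_le_Ns h1.2) (by rwa [cj_mul, cj_inv_le_iff_le_cj])
  rwa [cj_mul, cj_eq_iff_eq_cj_inv, inv_inv] at this

theorem FE.comm_cj (h : FE X L U P Q R z t u w) {g a b : G} (hg : g ∈ Cs R) (ha : a ∈ cj g Q)
    (hb : b ∈ cj g Q) : ⁅a, b⁆ ∈ R := by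
  have := commutator_mem_commutator ha hb
  rwa [← cj_commutator, h.cQ, cj_eq_of_mem_centralizer hg] at this

/-- An element of the class set normalising `D` is moved into a conjugate of `Q` over `D`. -/
theorem FE.key (h : FE X L U P Q R z t u w) {g x : G} {D : Subgroup G} (hg : g ∈ X ⊓ Cs R)
    (h1 : R ≤ D) (h2 : D ≤ cj g Q) (hx : x ∈ Q) (hn : cj x D ≤ D) (c1 : Cn L z x)
    (c2 : Cn L z (x * z)) : ∃ n ∈ X ⊓ Cs R, n ∈ Ns D ∧ n * x * n⁻¹ ∈ cj g Q := by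
  obtain ⟨T, hT, h3⟩ := exists_isSylowIn_ge (H := (X ⊓ Cs R) ⊓ Ns D)
    (isPGroup_cj (h.syl.isPGroup.to_le h.QU) g) (le_inf
      (cj_le_of_mem_of_le hg (h.QU.trans h.UC)) fun b hb => Comp.mem_Ns_of fun d hd => by
        simpa [commutatorElement_def] using mul_mem (h1 (h.comm_cj hg.2 hb (h2 hd))) hd)
  obtain ⟨c, hc, h4⟩ := h.sylC.exists_cj_le hT.isPGroup (hT.le.trans inf_le_left)
  rw [cj_le_iff_le_cj_inv] at h4
  obtain ⟨n, hn', h5⟩ := hT.exists_cj_le (Comp.Tw.of_sq (c1.sq (h.el z h.zR))).isPGroup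
    (zpowers_le.2 ⟨h.UC (h.QU hx), mem_normalizer_of_cj_le hn⟩)
  refine ⟨n, hn'.1, hn'.2, ?_⟩
  rw [h.wc' hg (inv_mem hc) (h3.trans h4)]
  exact h.mem_Q (inv_mem (h.CY hc)) (h4 (cj_le_iff.1 h5 x (mem_zpowers x)))
    ((c1.mono h.le).conj hn'.1.1) (cn_conj (h.CY hn'.1) (c2.mono h.le))

theorem FE.scQ (h : FE X L U P Q R z t u w) :
    ∀ a ∈ Q, ∀ g ∈ X ⊓ Cs R, g * a * g⁻¹ ∈ U → g * a * g⁻¹ ∈ Q := fun a ha g hg hv => by
  by_contra hn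
  have v1 : g * a * g⁻¹ ∈ cj g Q := conj_mem_cj.2 ha
  have v2 : g * a * g⁻¹ * (g * a * g⁻¹) ∈ R := by
    rw [conj_mul]; exact mem_normalizer_conj (Cs_le_Ns hg.2) (h.sQ a ha)
  generalize g * a * g⁻¹ = v at hv hn v1 v2
  obtain ⟨b, hb, d, hd, b1, b2, d1, d2, dR, e1⟩ := h.f6 v hv hn v2
  have QR : ∀ x ∈ Q, cj x R = R := fun x hx => cj_eq_of_mem_centralizer (h.UC (h.QU hx)).2
  have RB : ∀ g ∈ X ⊓ Cs R, R ≤ cj g Q := fun g hg =>
    (cj_eq_of_mem_centralizer hg.2).ge.trans (cj_mono g h.RQ)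
  have e2 : ⁅b, v⁆ ∈ Q := by
    simpa [commutatorElement_def, mul_assoc] using
      mul_mem hb (mem_normalizer_conj (h.PQ (h.UP hv)) (inv_mem hb))
  have e3 : d * v * d⁻¹ = ⁅b, v⁆ * ⁅b, v⁆ * v := by
    have k1 := mem_Cs.1 (h.UC hv).2 _ e1
    have k2 := mem_Cs.1 (h.UC (h.QU hb)).2 _ v2
    calc _ = ⁅b, v⁆ * (d⁻¹ * ⁅b, v⁆)⁻¹ * v * (d⁻¹ * ⁅b, v⁆) * ⁅b, v⁆⁻¹ := by group
      _ = b * v * b⁻¹ * v⁻¹ * (v * v * b) * v⁻¹ * b⁻¹ := by
        rw [mul_assoc _ v, ← k1, commutatorElement_def]; group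
      _ = b * v * b⁻¹ * v⁻¹ * b * v * b⁻¹ := by rw [k2]; group
      _ = _ := by rw [commutatorElement_def]; group
  obtain ⟨m, hm, m1, m2⟩ := h.key (D := R ⊔ zpowers v) hg le_sup_left
    (sup_le (RB g hg) (zpowers_le.2 v1)) hd (by
      rw [cj_sup, QR d hd, cj_zpowers, e3]
      exact sup_le le_sup_left (zpowers_le.2 (mul_mem_sup (h.sQ _ e2) (mem_zpowers v)))) d1 d2
  have hg' := mul_mem (inv_mem hm) hg
  have hD : R ⊔ zpowers v ⊔ zpowers d ≤ cj (m⁻¹ * g) Q := by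
    refine sup_le (sup_le (RB _ hg') ?_) ?_ <;> rw [zpowers_le, cj_mul, mem_cj_inv]
    exacts [sup_le (RB g hg) (zpowers_le.2 v1)
      (mem_normalizer_conj m1 (mem_sup_right (mem_zpowers v))), m2]
  have vD : v ∈ R ⊔ zpowers v ⊔ zpowers d := mem_sup_left (mem_sup_right (mem_zpowers v))
  have dD : d ∈ R ⊔ zpowers v ⊔ zpowers d := mem_sup_right (mem_zpowers d)
  have RD : R ≤ R ⊔ zpowers v ⊔ zpowers d := le_sup_left.trans le_sup_left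
  obtain ⟨n, hn, n1, n2⟩ := h.key hg' RD hD hb (by
      rw [cj_sup, cj_sup, QR b hb, cj_zpowers, cj_zpowers]
      refine sup_le (sup_le RD (zpowers_le.2 ?_)) (zpowers_le.2 ?_)
      · simpa [commutatorElement_def] using mul_mem (mul_mem dD (RD e1)) vD
      · simpa [commutatorElement_def] using
          mul_mem (RD (h.cQ.le (commutator_mem_commutator hb hd))) dD) b1 b2
  have := mem_normalizer_conj' (Cs_le_Ns hn.2)
    (h.comm_cj hg'.2 n2 (hD (mem_normalizer_conj n1 vD)))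
  rw [show n⁻¹ * ⁅n * b * n⁻¹, n * v * n⁻¹⁆ * n = ⁅b, v⁆ by
    simp only [commutatorElement_def]; group] at this
  exact dR (inv_mem_iff.1 ((mul_mem_cancel_right this).1 e1))

end Cfsg.Lib.AE
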