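import Cfsg.Agent.AE.F1

/-!
# The field end game: the centraliser of `R` normalises `Q`
-/

set_option autoImplicit false
set_option linter.unusedSectionVars false

namespace Cfsg.Lib.AE

open Subgroup Cfsg.Lib.Trans Cfsg.Lib.Gold
open Cfsg.Lib.SG2 (Uq)
open scoped commutatorElement

variable {G : Type*} [Group G] [Finite G]

namespace F2

omit [Finite G] in
theorem comm_mem_left {N : Subgroup G} {a b : G} (ha : a ∈ N) (hb : b ∈ Ns N) : ⁅a, b⁆ ∈ N := by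
  rw [commutatorElement_def, mul_assoc, mul_assoc, ← mul_assoc b]
  exact mul_mem ha (mem_normalizer_conj hb (inv_mem ha))

omit [Finite G] in
theorem comm_mem_right {N : Subgroup G} {a b : G} (ha : a ∈ Ns N) (hb : b ∈ N) : ⁅a, b⁆ ∈ N :=
  N.mul_mem (mem_normalizer_conj ha hb) (inv_mem hb)

variable {X L U P Q R : Subgroup G} {z t u w : G} (h : FE X L U P Q R z t u w)
include h

theorem nX (g : G) : g ∈ Ns X := by
  have := h.normal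
  exact mem_Ns_iff.2 (cj_eq_of_normal g X)

theorem PC : P ≤ X ⊓ Cs R := le_inf (h.PL.trans h.le) h.PR

theorem CY : X ⊓ Cs R ≤ X ⊓ C1 z := inf_le_inf_left _ (Cs_le_C1 h.zR)

theorem sylC : IsSylowIn 2 U (X ⊓ Cs R) := h.syl.mono (h.UP.trans (PC h)) inf_le_left

theorem sylY : IsSylowIn 2 U (X ⊓ C1 z) :=
  h.syl.mono (h.UP.trans ((PC h).trans (CY h))) inf_le_left

theorem twoQ : IsPGroup 2 Q := h.syl.isPGroup.to_le h.QU

theorem tQ : t ∈ Ns Q := (h.f8 ⟨h.tM, mem_C1.2 h.tz⟩).2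

end F2

open F2 Cfsg.Lib.SG2 Cfsg.Lib.SG2.Sec

section Field
variable {X L U P Q R : Subgroup G} {z t u w : G}

theorem FE.ok (h : FE X L U P Q R z t u w) {O : Subgroup G} (hO : Odd (Nat.card O))
    (hz : O ≤ C1 z) (ht : t ∈ Ns O) (hP : P ≤ Ns O) : O ≤ Cs Q := by
  obtain ⟨m, hm, e⟩ := h.tu
  have hu : u ∈ Ns O := hP (h.UP (h.QU h.uQ))
  have h1 := h.uq.okill h.tM h.t2 hO ht hu h.u2 hm e fun o ho => by
    have h2 : ⁅o, u⁆ ∈ Q ⊓ O :=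
      ⟨comm_mem_right (h.f8 ⟨ho.2, hz ho.1⟩).2 h.uQ, comm_mem_left ho.1 hu⟩
    rw [inf_eq_bot_of_odd (twoQ h) hO, mem_bot] at h2
    exact commutatorElement_eq_one_iff_commute.1 h2
  exact le_Cs_comm.1 (h.nu _ (le_Ns_Cs hP) h1)

theorem FE.cR (h : FE X L U P Q R z t u w) : X ⊓ Cs R ≤ Ns Q := by
  have hS := sylC h
  have QP : Q ≤ P := h.QU.trans h.UP
  have QC : Q ≤ X ⊓ Cs R := QP.trans (PC h)
  obtain ⟨K0, k1, -, k3, k4⟩ := gbq hS h.RQ h.QU (inf_le_right.trans Cs_le_Ns)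
    (fun a ha b hb => h.cQ ▸ commutator_mem_commutator ha hb) h.scQ
  obtain ⟨K, hK⟩ : ∃ K, K = ncl Q (X ⊓ Cs R) := ⟨_, rfl⟩
  have KK : K ≤ K0 := hK ▸ ncl_le_of_le_Ns k1 k3
  have QK : Q ≤ K := hK ▸ le_ncl'
  have KC : K ≤ X ⊓ Cs R := hK ▸ ncl_le QC
  have CK : X ⊓ Cs R ≤ Ns K := hK ▸ le_Ns_ncl
  have PK : P ≤ Ns K := (PC h).trans CK
  have KU : K ⊓ U = Q := h.f7Q _ (le_inf QK h.QU) inf_le_right
    (le_Ns_inf (h.UP.trans PK) le_normalizer) fun v hv v2 =>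
      k4 v ⟨KK hv.1, hv.2⟩ (by rw [v2]; exact one_mem _)
  have tC : t ∈ Ns (X ⊓ Cs R) := mem_Ns_inf (nX h t) (mem_Ns_Cs h.tR)
  have tK : t ∈ Ns K := by
    rw [mem_Ns_iff, hK, cj_ncl, mem_Ns_iff.1 tC, mem_Ns_iff.1 (tQ h)]
  have nQ : ∀ g ∈ Ns Q, g ∈ Ns (Ns Q) := fun g hg => le_normalizer hg
  have tN : t ∈ Ns (K ⊓ Ns Q) := mem_Ns_inf tK (nQ t (tQ h))
  have PN : P ≤ Ns (K ⊓ Ns Q) := fun p hp => mem_Ns_inf (PK hp) (nQ p (h.PQ hp))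
  obtain ⟨Z, _, _, π, hs, hk⟩ := exists_quot (Z := Ns Q) (D := Q) le_rfl
  have QM : Q ≤ Ns L := QP.trans (h.PL.trans le_normalizer)
  have hO : Odd (Nat.card (im π (K ⊓ Ns Q))) := by
    rw [card_im hk inf_le_right, ← Nat.not_even_iff_odd, even_iff_two_dvd]
    have h1 := hS.inf_normal_of_le CK KC
    rw [inf_comm, KU] at h1
    exact (h1.mono (le_inf QK le_normalizer) inf_le_left).not_dvd
  obtain ⟨m, hm, e⟩ := h.tw
  have hw : π ⟨w, h.PQ h.wP⟩ ∈ Cs (im π (K ⊓ Ns Q)) := by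
    refine Uq.okill (M := im π (Ns L)) (t := π ⟨t, tQ h⟩) ?_ (mk_mem_im h.tM) ?_ hO (im_Ns tN)
      (im_Ns (PN h.wP)) ?_ (m := π ⟨m, h.PQ hm⟩) (mk_mem_im (le_normalizer (h.PL hm))) ?_ ?_
    · intro g hg
      obtain ⟨g, rfl⟩ := hs g
      rw [← map_mul, ← map_inv, ← map_mul] at hg
      exact mk_mem_im (h.uq g.1 (mem_of_im hk QM hg))
    · rw [← map_mul]
      exact (hk _).2 (by simp [h.t2])
    · rw [← map_mul]
      exact (hk _).2 (by simp [h.w2])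
    · rw [← map_mul, ← map_inv, ← map_mul, ← map_mul]
      exact congrArg π (Subtype.ext e)
    · rintro _ ⟨ho, hoM⟩
      obtain ⟨o, hoN, rfl⟩ := mem_im.1 ho
      have oM : o.1 ∈ Ns L := mem_of_im hk QM hoM
      have oP : o.1 ∈ Ns P := (h.f8 ⟨oM, (CY h (KC hoN.1)).2⟩).1
      have c1 : ⁅o.1, w⁆ ∈ K ⊓ P := ⟨comm_mem_left hoN.1 (PK h.wP), comm_mem_right oP h.wP⟩
      have c2 : ⁅K ⊓ P, P⁆ ≤ Q := h.f10 _ (le_inf QK QP) inf_le_right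
        (le_Ns_inf PK le_normalizer) (by rw [inf_assoc, inf_eq_right.2 h.UP, KU])
      have c3 : Commute (π ⁅o, ⟨w, h.PQ h.wP⟩⁆) (π ⟨w, h.PQ h.wP⟩) := by
        rw [← commutatorElement_eq_one_iff_commute, ← map_commutatorElement]
        exact (hk _).2 (c2 (commutator_mem_commutator c1 h.wP))
      have c4 : π ⁅o, ⟨w, h.PQ h.wP⟩⁆ ∈ im π (K ⊓ Ns Q) := mk_mem_im ⟨c1.1, h.PQ c1.2⟩
      have w2 : π ⟨w, h.PQ h.wP⟩ * π ⟨w, h.PQ h.wP⟩ = 1 := by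
        rw [← map_mul]
        exact (hk _).2 (by simp [h.w2])
      rw [map_commutatorElement] at c3 c4
      generalize π ⟨w, h.PQ h.wP⟩ = W at c3 c4 w2 ⊢
      generalize π o = a at c3 c4 ⊢
      refine commutatorElement_eq_one_iff_commute.1
        (eq_one_of_sq_of_odd ?_ (odd_orderOf_of_mem c4 hO))
      calc ⁅a, W⁆ * ⁅a, W⁆ = ⁅a, W⁆ * ⁅a, W⁆ * (W * W) := by rw [w2, mul_one]
        _ = ⁅a, W⁆ * (⁅a, W⁆ * W) * W := by simp only [mul_assoc]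
        _ = ⁅a, W⁆ * (W * ⁅a, W⁆) * W := by rw [c3.eq]
        _ = a * (W * W) * a⁻¹ := by simp only [commutatorElement_def]; group
        _ = 1 := by rw [w2]; simp
  have hP : P ≤ pre π (Cs (im π (K ⊓ Ns Q))) :=
    h.nw _ (fun p hp => pre_Ns (x := ⟨p, h.PQ hp⟩) (mem_Ns_Cs (im_Ns (PN hp))))
      (le_pre_ker hk le_normalizer) (mem_pre.2 hw)
  refine (burnq hS h.RQ inf_le_right KC CK KU fun n hn a ha => ?_).trans (sup_le ?_ le_rfl)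
  · refine h.zPQ n ⟨hn.2, (KC hn.1).2⟩ (fun p hp => ?_) a ha
    have h1 := mem_Cs.1 ((mem_pre (x := ⟨p, h.PQ hp⟩)).1 (hP hp)) (π ⟨n, hn.2⟩) (mk_mem_im hn)
    refine (hk ⁅(⟨n, hn.2⟩ : Ns Q), ⟨p, h.PQ hp⟩⁆).1 ?_
    rw [map_commutatorElement]
    exact commutatorElement_eq_one_iff_mul_comm.2 h1
  · exact (h.ok odd_card_Oc (Oc_le.trans ((CY h).trans inf_le_right)) (mem_Ns_Oc tC)
      ((PC h).trans le_Ns_Oc_self)).trans Cs_le_Ns

end Field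

end Cfsg.Lib.AE
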