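import Cfsg.Agent.AE.F2

/-!
# The field end game: the centraliser of `z` and the final identification
-/

set_option autoImplicit false
set_option linter.unusedSectionVars false

namespace Cfsg.Lib.AE

open Subgroup Cfsg.Lib.Trans Cfsg.Lib.Gold
open Cfsg.Lib.SG2 (Uq)
open scoped commutatorElement

variable {G : Type*} [Group G] [Finite G]

namespace F3

open F2

variable {X L U P Q R : Subgroup G} {z t u w : G} (h : FE X L U P Q R z t u w)
include h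

theorem nQ {n : G} (hn : n ∈ X ⊓ C1 z) (hR : n ∈ Ns R) : n ∈ Ns Q := by
  have QC : Q ≤ X ⊓ Cs R := h.QU.trans (h.UP.trans (PC h))
  have e : cj n (X ⊓ Cs R) = X ⊓ Cs R := mem_Ns_iff.1 (mem_Ns_inf (nX h n) (mem_Ns_Cs hR))
  refine mem_Ns_iff.2 (h.wc hn hR ((sylC h).le_of_normal (isPGroup_cj (twoQ h) n)
    ((cj_mono n QC).trans e.le) ?_))
  change _ ≤ Ns (cj n Q)
  rw [← cj_Ns, ← e]
  exact cj_mono n h.cR

/-- An element which normalises `Q` and acts trivially on `Q / R` centralises `R`. -/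
theorem cs {k : G} (hk : ∀ a ∈ Q, ⁅k, a⁆ ∈ R) : R ≤ C1 k := by
  have c : ∀ r ∈ R, ∀ a ∈ Q, Commute r a := fun r hr a ha =>
    mem_Cs.1 (h.PR (h.UP (h.QU ha))) r hr
  rw [← h.cQ, commutator_le]
  intro a ha b hb
  rw [mem_C1]
  have e : ∀ a : G, k * a * k⁻¹ = ⁅k, a⁆ * a := fun a => by group
  have h1 : k * ⁅a, b⁆ * k⁻¹ = ⁅⁅k, a⁆ * a, ⁅k, b⁆ * b⁆ := by
    rw [← e, ← e, conjugate_commutatorElement]
  have r1 := hk a ha
  have r2 := hk b hb
  generalize ⁅k, a⁆ = r at h1 r1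
  generalize ⁅k, b⁆ = s at h1 r2
  have h2 : ⁅r * a, s * b⁆ = ⁅a, b⁆ := by
    have ra := c r r1 a ha
    have rb := c r r1 b hb
    have sa := c s r2 a ha
    have sb := c s r2 b hb
    have rs := c r r1 s (h.RQ r2)
    calc ⁅r * a, s * b⁆ = r * (a * s) * b * a⁻¹ * (r⁻¹ * b⁻¹) * s⁻¹ := by group
      _ = r * (s * a) * b * a⁻¹ * (b⁻¹ * r⁻¹) * s⁻¹ := by rw [sa.eq, rb.inv_inv.eq]
      _ = r * s * ⁅a, b⁆ * (s * r)⁻¹ := by group
      _ = ⁅a, b⁆ := by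
        have h3 : Commute (r * s) ⁅a, b⁆ :=
          c _ (mul_mem r1 r2) _ (mul_mem (mul_mem (mul_mem ha hb) (inv_mem ha)) (inv_mem hb))
        rw [h3.eq, ← rs.eq, mul_inv_cancel_right]
  rw [h2] at h1
  rw [← h1, inv_mul_cancel_right, h1]

end F3

open F2 F3 Cfsg.Lib.SG2

section Field
variable {X L U P Q R : Subgroup G} {z t u w : G}

theorem FE.cz (h : FE X L U P Q R z t u w) : X ⊓ C1 z ≤ Ns Q := by
  have hS := sylY h
  have RU : R ≤ U := h.RQ.trans h.QU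
  have PY : P ≤ X ⊓ C1 z := (PC h).trans (CY h)
  obtain ⟨K, k1, k2, k3, k4⟩ := gbq hS (D := ⊥) bot_le RU (by simp [normalizer_eq_top])
    (fun a ha b hb => mem_bot.2 (commutatorElement_eq_one_iff_mul_comm.2
      (comm_of_sq h.el a ha b hb))) h.scR
  have KU : K ⊓ U = R := h.f7R _ (le_inf k1 RU) inf_le_right
    (le_Ns_inf (hS.le.trans k3) le_normalizer) fun v hv v2 => k4 v hv (mem_bot.2 v2)
  have tY : t ∈ Ns (X ⊓ C1 z) := mem_Ns_inf (nX h t) (mem_Ns_C1 h.tz)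
  have h1 : X ⊓ C1 z ≤ Ns R := by
    refine (burnq hS (D := ⊥) bot_le (le_Cs_comm.1 bot_le) k2 k3 KU fun k hk a ha => ?_).trans
      (sup_le ((h.ok odd_card_Oc (Oc_le.trans inf_le_right) (mem_Ns_Oc tY)
        (PY.trans le_Ns_Oc_self)).trans ((Cs_anti h.RQ).trans Cs_le_Ns)) le_rfl)
    have h2 := nQ h (k2 hk.1) hk.2
    have h3 := cs h (k := k) (fun b hb => KU.le
      ⟨comm_mem_left hk.1 (k3 (hS.le (h.QU hb))), h.QU (comm_mem_right h2 hb)⟩) ha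
    exact mem_bot.2 (commutatorElement_eq_one_iff_mul_comm.2 (mem_C1.1 h3).symm)
  exact fun n hn => nQ h hn (h1 hn)

theorem FE.eq (h : FE X L U P Q R z t u w) : L = X := by
  by_contra hne
  have UL : U ≤ L := h.UP.trans h.PL
  have RU : R ≤ U := h.RQ.trans h.QU
  have QL : Q ≤ L := h.QU.trans UL
  have hC : X ⊓ C1 z ≤ Ns L := fun y hy => by
    have h1 : L ≤ cj y⁻¹ L := h.gen _ fun l hl hv => by
      obtain ⟨l', hl', e⟩ := h.fus (QL (mem_normalizer_conj (h.cz hy) hv))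
        ⟨y * l, mul_mem hy.1 (h.le hl), by group⟩
      have h2 : l'⁻¹ * y * l ∈ X ⊓ C1 z := by
        refine ⟨X.mul_mem (X.mul_mem (X.inv_mem (h.le hl')) hy.1) (h.le hl), mem_C1.2 ?_⟩
        calc l'⁻¹ * y * l * z = l'⁻¹ * (y * (l * z * l⁻¹) * y⁻¹) * y * l := by group
          _ = _ := by rw [← e]; group
      have h3 := mem_Ns_iff.1 (h.cz h2)
      rw [← cj_le_iff_le_cj_inv, cj_cj, show y * l = l' * (l'⁻¹ * y * l) by group, ← cj_cj, h3]
      exact cj_le_of_mem_of_le hl' QL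
    exact mem_normalizer_of_cj_le (cj_le_iff_le_cj_inv.2 h1)
  obtain ⟨m, -, ⟨e⟩⟩ := holt (M := Ns L) h.simple h.perfX h.syl (z := z)
    ⟨RU h.zR, le_Cs_comm.1 (h.UP.trans h.PR) h.zR⟩ (h.el z h.zR) h.z1 UL
    (le_inf h.le le_normalizer) le_rfl h.perf hne hC (fun g hg hm => by
      have c : Cn X z (g * z * g⁻¹) := ⟨g, hg, rfl⟩
      obtain ⟨l, hl, e⟩ := h.fus (h.two _ ⟨c.mem (h.le (UL (RU h.zR))), hm⟩
        (.of_sq (c.sq (h.el z h.zR)))) c
      exact ⟨l, ⟨h.le hl, le_normalizer hl⟩, e⟩) h.hT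
  exact (h.nalt m).false e

end Field

end Cfsg.Lib.AE
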